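import Cfsg.Agent.Omega.EH3.Clif.Act
import Cfsg.Agent.Omega.EH3.Basic

-- merged: Cfsg.Agent.Omega.EH3.Clif.Two
section

/-!
# Clifford step of EH3: a simple module over a ring generated by two commuting subrings (helper291)

`U` a finite simple `R`-module, `R = R₁ R₂`, `R₁`, `R₂` commuting subrings, `M` a simple `R₁`-submodule.
* `iso_top` : `U` is `R₁`-isotypic of type `M`;
* `kill` : an element of `R₁` killing `M` kills `U`;
* `end_le` : `|End_{R₁}(M)| ≤ |End_R(U)|`;
* `hom_sub` : `|U| = |M|^n` and `Hom_{R₁}(M, U)` embeds in `U` as an `R₂`-submodule of order `|End_{R₁}(M)|^n`.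
-/

set_option autoImplicit false

namespace Cfsg.Agent.Omega.EH3.Clif

open Module

section gen

variable {V : Type*} [AddCommGroup V] {R : Type*} [Ring R] [Module R V]

/-- semisimplicity and isotypy from `isotypicComponent = ⊤` -/
theorem semisimple_of_top {M : Submodule R V} (hM : IsSimpleModule R M)
    (h : isotypicComponent R V M = ⊤) : IsSemisimpleModule R V := by
  have h1 : IsSemisimpleModule R (isotypicComponent R V M) := inferInstance
  rw [h] at h1
  exact IsSemisimpleModule.congr (Submodule.topEquiv (R := R) (M := V)).symm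

/-- an element killing `M` kills the `M`-isotypic component -/
theorem kill_comp {M : Submodule R V} {r : R} (hr : ∀ m ∈ M, r • m = 0) :
    ∀ v ∈ isotypicComponent R V M, r • v = 0 := by
  intro v hv
  rw [isotypicComponent, sSup_eq_iSup'] at hv
  induction hv using Submodule.iSup_induction' with
  | mem i x hx =>
    obtain ⟨φ⟩ := i.2
    have h1 : r • (⟨x, hx⟩ : i.1) = 0 := by
      apply φ.injective
      rw [map_smul, map_zero]
      exact Subtype.ext (hr _ (φ ⟨x, hx⟩).2)
    exact congrArg Subtype.val h1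
  | zero => exact smul_zero r
  | add x y _ _ hx hy => rw [smul_add, hx, hy, add_zero]

/-- orders of a homogeneous module, of a submodule and of the space of homomorphisms -/
theorem card_iso [Finite V] {M : Submodule R V} (hM : IsSimpleModule R M)
    (h : isotypicComponent R V M = ⊤) :
    ∃ n, Nat.card V = Nat.card M ^ n ∧ Nat.card (M →ₗ[R] V) = Nat.card (Module.End R M) ^ n := by
  have h1 := semisimple_of_top hM h
  have h2 : IsIsotypicOfType R V M := IsIsotypicOfType.of_isotypicComponent_eq_top h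
  have : Module.Finite R V := Module.Finite.of_finite
  obtain ⟨n, ⟨φ⟩⟩ := h2.linearEquiv_fun
  refine ⟨n, ?_, ?_⟩
  · rw [Nat.card_congr φ.toEquiv, Nat.card_fun, Nat.card_fin]
  · have e : (M →ₗ[R] V) ≃ (Fin n → Module.End R M) :=
      { toFun := fun f i => (LinearMap.proj i) ∘ₗ (φ : V →ₗ[R] (Fin n → M)) ∘ₗ f
        invFun := fun F => (φ.symm : (Fin n → M) →ₗ[R] V) ∘ₗ (LinearMap.pi F)
        left_inv := by
          intro f
          ext m
          show φ.symm (fun i => φ (f m) i) = f m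
          exact φ.symm_apply_apply _
        right_inv := by
          intro F
          funext i
          ext m
          show ((φ (φ.symm (fun i => F i m)) i : M) : V) = F i m
          rw [φ.apply_symm_apply] }
    rw [Nat.card_congr e, Nat.card_fun, Nat.card_fin]

/-- the order of a submodule of a homogeneous module -/
theorem card_sub [Finite V] {M : Submodule R V} (hM : IsSimpleModule R M)
    (h : isotypicComponent R V M = ⊤) (Y : Submodule R V) : ∃ j, Nat.card Y = Nat.card M ^ j := by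
  have h1 := semisimple_of_top hM h
  have h2 : IsIsotypicOfType R V M := IsIsotypicOfType.of_isotypicComponent_eq_top h
  have h3 : IsIsotypicOfType R Y M := h2.of_injective Y.subtype Y.subtype_injective
  have : Module.Finite R Y := Module.Finite.of_finite
  obtain ⟨n, ⟨φ⟩⟩ := h3.linearEquiv_fun
  exact ⟨n, by rw [Nat.card_congr φ.toEquiv, Nat.card_fun, Nat.card_fin]⟩

/-- all simple submodules have the same order -/
theorem card_simple {M : Submodule R V} (hM : IsSimpleModule R M)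
    (h : isotypicComponent R V M = ⊤) {M' : Submodule R V} (hM' : IsSimpleModule R M') :
    Nat.card M' = Nat.card M := by
  have h2 : IsIsotypicOfType R V M := IsIsotypicOfType.of_isotypicComponent_eq_top h
  obtain ⟨φ⟩ := h2 M'
  exact Nat.card_congr φ.toEquiv

theorem comp_top_of_simple {M : Submodule R V} (hM : IsSimpleModule R M)
    (h : isotypicComponent R V M = ⊤) {M' : Submodule R V} (hM' : IsSimpleModule R M') :
    isotypicComponent R V M' = ⊤ := by
  have h2 : IsIsotypicOfType R V M := IsIsotypicOfType.of_isotypicComponent_eq_top h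
  obtain ⟨φ⟩ := h2 M'
  rw [φ.isotypicComponent_eq, h]

end gen

section two

variable {U : Type*} [AddCommGroup U] {R : Type*} [Ring R] [Module R U]
  {R₁ R₂ : Subring R}

theorem smul_def {T : Subring R} (r : T) (u : U) : r • u = (r : R) • u := rfl

/-- left multiplication by an element of `R₂` is `R₁`-linear -/
def lmul (hc : ∀ x ∈ R₁, ∀ y ∈ R₂, x * y = y * x) (y : R₂) : U →ₗ[R₁] U where
  toFun u := (y : R) • u
  map_add' := smul_add _
  map_smul' := by
    intro x u
    show (y : R) • ((x : R) • u) = (x : R) • ((y : R) • u)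
    rw [smul_smul, smul_smul, hc x x.2 y y.2]

/-- an additive subgroup stable under `R₁` and `R₂` is stable under `R` -/
theorem stable (hg : R₁ ⊔ R₂ = ⊤) (W : AddSubgroup U) (h1 : ∀ x ∈ R₁, ∀ u ∈ W, x • u ∈ W)
    (h2 : ∀ x ∈ R₂, ∀ u ∈ W, x • u ∈ W) (x : R) : ∀ u ∈ W, x • u ∈ W := by
  let T : Subring R :=
    { carrier := {x | ∀ u ∈ W, x • u ∈ W}
      mul_mem' := by
        intro x y hx hy u hu
        rw [mul_smul]; exact hx _ (hy u hu)
      one_mem' := by
        intro u hu
        rw [one_smul]; exact hu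
      add_mem' := by
        intro x y hx hy u hu
        rw [add_smul]; exact W.add_mem (hx u hu) (hy u hu)
      zero_mem' := by
        intro u _
        rw [zero_smul]; exact W.zero_mem
      neg_mem' := by
        intro x hx u hu
        rw [neg_smul]; exact W.neg_mem (hx u hu) }
  have h3 : R₁ ⊔ R₂ ≤ T := sup_le h1 h2
  rw [hg] at h3
  exact h3 (Subring.mem_top x)

/-- an additive map commuting with `R₁` and `R₂` commutes with `R` -/
theorem linear (hg : R₁ ⊔ R₂ = ⊤) (F : U →+ U) (h1 : ∀ x ∈ R₁, ∀ u, F (x • u) = x • F u)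
    (h2 : ∀ x ∈ R₂, ∀ u, F (x • u) = x • F u) (x : R) : ∀ u, F (x • u) = x • F u := by
  let T : Subring R :=
    { carrier := {x | ∀ u, F (x • u) = x • F u}
      mul_mem' := by
        intro x y hx hy u
        rw [mul_smul, hx, hy, mul_smul]
      one_mem' := by
        intro u
        rw [one_smul, one_smul]
      add_mem' := by
        intro x y hx hy u
        rw [add_smul, add_smul, map_add, hx, hy]
      zero_mem' := by
        intro u
        rw [zero_smul, zero_smul, map_zero]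
      neg_mem' := by
        intro x hx u
        rw [neg_smul, neg_smul, map_neg, hx] }
  have h3 : R₁ ⊔ R₂ ≤ T := sup_le h1 h2
  rw [hg] at h3
  exact h3 (Subring.mem_top x)

/-- **`U` is `R₁`-homogeneous** -/
theorem iso_top (hs : IsSimpleModule R U) (hc : ∀ x ∈ R₁, ∀ y ∈ R₂, x * y = y * x)
    (hg : R₁ ⊔ R₂ = ⊤) {M : Submodule R₁ U} (hM : IsSimpleModule R₁ M) :
    isotypicComponent R₁ U M = ⊤ := by
  let W : Submodule R U :=
    { carrier := {u | u ∈ isotypicComponent R₁ U M}
      add_mem' := fun hu hv => (isotypicComponent R₁ U M).add_mem hu hv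
      zero_mem' := (isotypicComponent R₁ U M).zero_mem
      smul_mem' := by
        intro x u hu
        refine stable hg (isotypicComponent R₁ U M).toAddSubgroup ?_ ?_ x u hu
        · intro y hy v hv
          exact (isotypicComponent R₁ U M).smul_mem ⟨y, hy⟩ hv
        · intro y hy v hv
          exact LinearMap.le_comap_isotypicComponent M (lmul (U := U) hc ⟨y, hy⟩) hv }
  have hW : W = ⊤ := by
    rcases eq_bot_or_eq_top W with h | h
    · exfalso
      have h1 := bot_lt_isotypicComponent M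
      obtain ⟨u, hu, hu0⟩ := Submodule.exists_mem_ne_zero_of_ne_bot h1.ne'
      apply hu0
      have h2 : u ∈ W := hu
      rw [h, Submodule.mem_bot] at h2
      exact h2
    · exact h
  rw [eq_top_iff]
  intro u _
  have : u ∈ W := by rw [hW]; exact Submodule.mem_top
  exact this

/-- the diagonal action -/
theorem end_le [Finite U] (hs : IsSimpleModule R U) (hc : ∀ x ∈ R₁, ∀ y ∈ R₂, x * y = y * x)
    (hg : R₁ ⊔ R₂ = ⊤) {M : Submodule R₁ U} (hM : IsSimpleModule R₁ M) :
    Nat.card (Module.End R₁ M) ≤ Nat.card (Module.End R U) := by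
  classical
  have h := iso_top hs hc hg hM
  have h1 := semisimple_of_top hM h
  have h2 : IsIsotypicOfType R₁ U M := IsIsotypicOfType.of_isotypicComponent_eq_top h
  have : Module.Finite R₁ U := Module.Finite.of_finite
  obtain ⟨n, ⟨φ⟩⟩ := h2.linearEquiv_fun
  have hcomm : ∀ d d' : Module.End R₁ M, d * d' = d' * d := by
    intro d d'
    let _ := littleWedderburn (Module.End R₁ M)
    exact mul_comm d d'
  -- the diagonal map
  let dg : Module.End R₁ M → ((Fin n → M) →ₗ[R₁] (Fin n → M)) := fun d =>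
    LinearMap.pi fun i => d ∘ₗ LinearMap.proj i
  have hdg : ∀ d v i, dg d v i = d (v i) := fun _ _ _ => rfl
  have hcent : ∀ d (f : (Fin n → M) →ₗ[R₁] (Fin n → M)) v, f (dg d v) = dg d (f v) := by
    intro d f v
    have h3 : ∀ (j : Fin n) (m : M), f (dg d (Pi.single j m)) = dg d (f (Pi.single j m)) := by
      intro j m
      funext i
      rw [hdg]
      have h4 : dg d (Pi.single j m) = Pi.single j (d m) := by
        funext k
        rw [hdg]
        by_cases hk : k = j
        · subst hk; rw [Pi.single_eq_same, Pi.single_eq_same]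
        · rw [Pi.single_eq_of_ne hk, Pi.single_eq_of_ne hk, map_zero]
      rw [h4]
      let g : Module.End R₁ M := LinearMap.proj i ∘ₗ f ∘ₗ LinearMap.single R₁ (fun _ => M) j
      have h5 := LinearMap.congr_fun (hcomm g d) m
      exact h5
    have h4 : v = ∑ j, Pi.single j (v j) := (Finset.univ_sum_single v).symm
    rw [h4, map_sum, map_sum, map_sum, map_sum]
    exact Finset.sum_congr rfl fun j _ => h3 j (v j)
  let Ψ : Module.End R₁ M → Module.End R U := fun d =>
    { toFun := fun u => φ.symm (dg d (φ u))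
      map_add' := by intro u v; rw [map_add, map_add, map_add]
      map_smul' := by
        intro x u
        let F : U →+ U :=
          { toFun := fun u => φ.symm (dg d (φ u))
            map_zero' := by rw [map_zero, map_zero, map_zero]
            map_add' := by intro u v; rw [map_add, map_add, map_add] }
        refine linear hg F ?_ ?_ x u
        · intro y hy u
          show φ.symm (dg d (φ ((⟨y, hy⟩ : R₁) • u))) = (⟨y, hy⟩ : R₁) • φ.symm (dg d (φ u))
          rw [map_smul, map_smul, map_smul]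
        · intro y hy u
          show φ.symm (dg d (φ (lmul (U := U) hc ⟨y, hy⟩ u))) = lmul (U := U) hc ⟨y, hy⟩ (φ.symm (dg d (φ u)))
          have h5 := hcent d ((φ : U →ₗ[R₁] _) ∘ₗ lmul (U := U) hc ⟨y, hy⟩ ∘ₗ (φ.symm : _ →ₗ[R₁] U)) (φ u)
          have h6 : φ (lmul (U := U) hc ⟨y, hy⟩ (φ.symm (dg d (φ u)))) =
              dg d (φ (lmul (U := U) hc ⟨y, hy⟩ (φ.symm (φ u)))) := h5
          rw [φ.symm_apply_apply] at h6
          rw [← h6, φ.symm_apply_apply] }
  apply Nat.card_le_card_of_injective Ψ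
  intro d d' hdd
  have hn : 0 < n := by
    rw [pos_iff_ne_zero]
    rintro rfl
    have : Nontrivial U := IsSimpleModule.nontrivial R U
    obtain ⟨u, hu⟩ := exists_ne (0 : U)
    apply hu
    apply φ.injective
    exact Subsingleton.elim _ _
  have h3 := LinearMap.congr_fun hdd (φ.symm (Pi.single ⟨0, hn⟩ (0 : M)))
  ext m
  have h4 := LinearMap.congr_fun hdd (φ.symm (Pi.single ⟨0, hn⟩ m))
  have h5 : φ.symm (dg d (φ (φ.symm (Pi.single ⟨0, hn⟩ m)))) =
      φ.symm (dg d' (φ (φ.symm (Pi.single ⟨0, hn⟩ m)))) := h4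
  rw [φ.apply_symm_apply] at h5
  have h6 := congrFun (φ.symm.injective h5) ⟨0, hn⟩
  rw [hdg, hdg, Pi.single_eq_same] at h6
  rw [h6]

/-- **`Hom_{R₁}(M, U)` as an `R₂`-submodule of `U`** -/
theorem hom_sub [Finite U] (hs : IsSimpleModule R U) (hc : ∀ x ∈ R₁, ∀ y ∈ R₂, x * y = y * x)
    (hg : R₁ ⊔ R₂ = ⊤) {M : Submodule R₁ U} (hM : IsSimpleModule R₁ M) {e : U} (he : e ∈ M)
    (he0 : e ≠ 0) : ∃ n, Nat.card U = Nat.card M ^ n ∧ ∃ Y : Submodule R₂ U, e ∈ Y ∧
      Nat.card Y = Nat.card (Module.End R₁ M) ^ n := by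
  have h := iso_top hs hc hg hM
  obtain ⟨n, h1, h2⟩ := card_iso hM h
  refine ⟨n, h1, ?_⟩
  let Y : Submodule R₂ U :=
    { carrier := {u | ∃ f : M →ₗ[R₁] U, f ⟨e, he⟩ = u}
      add_mem' := by
        rintro _ _ ⟨f, rfl⟩ ⟨g, rfl⟩
        exact ⟨f + g, rfl⟩
      zero_mem' := ⟨0, rfl⟩
      smul_mem' := by
        rintro y _ ⟨f, rfl⟩
        exact ⟨lmul (U := U) hc y ∘ₗ f, rfl⟩ }
  refine ⟨Y, ⟨M.subtype, rfl⟩, ?_⟩
  rw [← h2]
  symm
  apply Nat.card_congr
  refine Equiv.ofBijective (fun f : M →ₗ[R₁] U => (⟨f ⟨e, he⟩, ⟨f, rfl⟩⟩ : Y)) ⟨?_, ?_⟩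
  · intro f g hfg
    have h3 : f ⟨e, he⟩ = g ⟨e, he⟩ := congrArg Subtype.val hfg
    have h4 : (f - g) ⟨e, he⟩ = 0 := by rw [LinearMap.sub_apply, h3, sub_self]
    rcases (f - g).injective_or_eq_zero with h5 | h5
    · exfalso
      apply he0
      have h6 := h5 (h4.trans (map_zero _).symm)
      exact congrArg Subtype.val h6
    · exact sub_eq_zero.1 h5
  · rintro ⟨u, f, hf⟩
    exact ⟨f, Subtype.ext hf⟩

end two

end Cfsg.Agent.Omega.EH3.Clif

end

-- merged: Cfsg.Agent.Omega.EH3.Clif.IneqOne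
section

/-!
# Clifford step of EH3: both factors invariant (helper291)

`ineq_one` : `(log |B|)² ≤ 2 log |U|`.
-/

set_option autoImplicit false

namespace Cfsg.Agent.Omega.EH3.Clif

open Module

variable {U : Type*} [AddCommGroup U]

theorem isPGroup_two {B : Type*} [Group B] (hB : ∀ b : B, b * b = 1) : IsPGroup 2 B :=
  fun b => ⟨1, by rw [pow_one, pow_two, hB]⟩

theorem comm_of_sq {B : Type*} [Group B] (hB : ∀ b : B, b * b = 1) (x y : B) : x * y = y * x := by
  have h1 := hB (x * y)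
  have hx : x⁻¹ = x := inv_eq_of_mul_eq_one_left (hB x)
  have hy : y⁻¹ = y := inv_eq_of_mul_eq_one_left (hB y)
  have h2 : (x * y)⁻¹ = x * y := inv_eq_of_mul_eq_one_left h1
  rw [mul_inv_rev, hx, hy] at h2
  exact h2.symm

/-- an invariant simple submodule of a homogeneous module, with the fixed vector -/
theorem exists_simple {S : Type*} [Ring S] [Module S U] [Finite U] [Nontrivial U]
    (h2 : ∀ u : U, u + u = 0) (htop : ∀ M : Submodule S U, IsSimpleModule S M →
      isotypicComponent S U M = ⊤) {B : Type*} [Group B] (hB : IsPGroup 2 B) (β : Act B U)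
    (hN : ∀ b, Nor S (β b)) :
    ∃ M : Submodule S U, IsSimpleModule S M ∧ (∀ b, ∀ v ∈ M, β b v ∈ M) ∧
      ∃ e ∈ M, e ≠ 0 ∧ ∀ b, β b e = e := by
  obtain ⟨M₀, hM₀⟩ := IsAtomic.exists_atom (Submodule S U)
  rw [← isSimpleModule_iff_isAtom] at hM₀
  have hiso : IsIsotypicOfType S U M₀ := IsIsotypicOfType.of_isotypicComponent_eq_top (htop M₀ hM₀)
  obtain ⟨M, hM, -, hinv⟩ := exists_inv_simple h2 hB β hN (V₁ := ⊤) (M₀ := M₀)
    (fun _ _ _ => Submodule.mem_top) hM₀ le_top (by
      intro M'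
      have := M'.2.1
      obtain ⟨φ⟩ := hiso M'.1
      exact ⟨φ.symm⟩)
  have : Nontrivial M := IsSimpleModule.nontrivial S M
  obtain ⟨m, hm⟩ := exists_ne (0 : M)
  obtain ⟨e, heM, he0, he⟩ := exists_fix h2 hB β M.toAddSubgroup hinv
    ⟨m, m.2, fun h => hm (Subtype.ext h)⟩
  exact ⟨M, hM, hinv, e, heM, he0, he⟩

/-- the count on an invariant submodule whose only fixed vectors are `0, e` -/
theorem count_sub {S : Type*} [Ring S] [Module S U] [Finite U] (h2 : ∀ u : U, u + u = 0)
    {B : Type*} [Group B] [Finite B] (hB : ∀ b : B, b * b = 1) (β : Act B U) (M : Submodule S U)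
    (hinv : ∀ b, ∀ v ∈ M, β b v ∈ M) {e : U} (heM : e ∈ M) (he : e ≠ 0) (hfe : ∀ b, β b e = e)
    (hfix : ∀ v ∈ M, (∀ b, β b v = v) → v = 0 ∨ v = e)
    (hk : Nat.card {b : B // ∀ m ∈ M, β b m = m} ≤ 2) : Nat.card B ≤ Nat.card M := by
  have h1 := count_one (V := M) (fun v => Subtype.ext (h2 v)) (isPGroup_two hB) (comm_of_sq hB)
    (res β M hinv) (e := ⟨e, heM⟩) (fun h => he (congrArg Subtype.val h))
    (fun b => Subtype.ext (hfe b)) (by
      intro v hv
      rcases hfix v v.2 (fun b => congrArg Subtype.val (hv b)) with h | h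
      · exact Or.inl (Subtype.ext h)
      · exact Or.inr (Subtype.ext h))
  have h3 : Nat.card {b : B // ∀ v, res β M hinv b v = v} ≤ 2 := by
    refine le_trans (le_of_eq ?_) hk
    apply Nat.card_congr
    apply Equiv.subtypeEquivRight
    intro b
    constructor
    · intro h m hm
      exact congrArg Subtype.val (h ⟨m, hm⟩)
    · intro h v
      exact Subtype.ext (h v v.2)
  have h4 : Nat.card B * 2 ≤ 2 * Nat.card M := h1.trans (Nat.mul_le_mul_right _ h3)
  omega

variable {R : Type*} [Ring R] [Module R U] {R₁ R₂ : Subring R}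

/-- **both factors invariant** -/
theorem ineq_one [Finite U] (h2 : ∀ u : U, u + u = 0) (hs : IsSimpleModule R U)
    (hc : ∀ x ∈ R₁, ∀ y ∈ R₂, x * y = y * x) (hg : R₁ ⊔ R₂ = ⊤)
    {B : Type*} [Group B] [Finite B] (hB : ∀ b : B, b * b = 1) (β : Act B U)
    (hN₁ : ∀ b, Nor R₁ (β b)) (hN₂ : ∀ b, Nor R₂ (β b)) {e : U} (he : e ≠ 0)
    (hfe : ∀ b, β b e = e) (hfix : ∀ v, (∀ b, β b v = v) → v = 0 ∨ v = e)
    (hk₁ : ∀ M : Submodule R₁ U, IsSimpleModule R₁ M → e ∈ M →
      Nat.card {b : B // ∀ m ∈ M, β b m = m} ≤ 2)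
    (hk₂ : ∀ M : Submodule R₂ U, IsSimpleModule R₂ M → e ∈ M →
      Nat.card {b : B // ∀ m ∈ M, β b m = m} ≤ 2)
    {k l : ℕ} (hk : Nat.card B = 2 ^ k) (hl : Nat.card U = 2 ^ l) : k * k ≤ 2 * l := by
  have : Nontrivial U := IsSimpleModule.nontrivial R U
  have hg' : R₂ ⊔ R₁ = ⊤ := by rw [sup_comm]; exact hg
  have hc' : ∀ x ∈ R₂, ∀ y ∈ R₁, x * y = y * x := fun x hx y hy => (hc y hy x hx).symm
  obtain ⟨M₁, hM₁, hinv₁, e₁, he₁M, he₁0, he₁⟩ := exists_simple h2
    (fun M hM => iso_top hs hc hg hM) (isPGroup_two hB) β hN₁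
  obtain ⟨M₂, hM₂, hinv₂, e₂, he₂M, he₂0, he₂⟩ := exists_simple h2
    (fun M hM => iso_top hs hc' hg' hM) (isPGroup_two hB) β hN₂
  obtain rfl : e₁ = e := (hfix e₁ he₁).resolve_left he₁0
  obtain rfl : e₂ = e₁ := (hfix e₂ he₂).resolve_left he₂0
  have hc₁ : Nat.card B ≤ Nat.card M₁ := count_sub h2 hB β M₁ hinv₁ he₁M he₁0 he₁
    (fun v _ hv => hfix v hv) (hk₁ M₁ hM₁ he₁M)
  have hc₂ : Nat.card B ≤ Nat.card M₂ := count_sub h2 hB β M₂ hinv₂ he₂M he₁0 he₁
    (fun v _ hv => hfix v hv) (hk₂ M₂ hM₂ he₂M)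
  have hE : Nat.card (Module.End R₁ M₁) ≤ 4 :=
    end_le_four (V := M₁) (fun v => Subtype.ext (h2 v)) hB (res β M₁ hinv₁)
      (fun b => res_nor β M₁ hinv₁ b (hN₁ b)) hM₁ (e := ⟨e₂, he₁M⟩)
      (fun h => he₁0 (congrArg Subtype.val h)) (fun b => Subtype.ext (he₁ b)) (by
        intro v hv
        rcases hfix v (fun b => congrArg Subtype.val (hv b)) with h | h
        · exact Or.inl (Subtype.ext h)
        · exact Or.inr (Subtype.ext h))
  obtain ⟨n, hn, Y, heY, hY⟩ := hom_sub hs hc hg hM₁ he₁M he₁0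
  have hle : M₂ ≤ Y := by
    rw [isSimpleModule_iff_isAtom] at hM₂
    rcases hM₂.le_iff.1 (inf_le_left : M₂ ⊓ Y ≤ M₂) with h | h
    · exfalso
      apply he₁0
      have : e₂ ∈ M₂ ⊓ Y := ⟨he₂M, heY⟩
      rwa [h, Submodule.mem_bot] at this
    · exact inf_eq_left.1 h
  have hcard : Nat.card M₂ ≤ Nat.card Y :=
    Nat.card_le_card_of_injective (Submodule.inclusion hle) (Submodule.inclusion_injective hle)
  have h5 : 2 ^ k ≤ 2 ^ (2 * n) := by
    calc 2 ^ k = Nat.card B := hk.symm
      _ ≤ Nat.card M₂ := hc₂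
      _ ≤ Nat.card Y := hcard
      _ = Nat.card (Module.End R₁ M₁) ^ n := hY
      _ ≤ 4 ^ n := Nat.pow_le_pow_left hE n
      _ = 2 ^ (2 * n) := by rw [pow_mul]; norm_num
  have h6 : 2 ^ (k * n) ≤ 2 ^ l := by
    calc 2 ^ (k * n) = (2 ^ k) ^ n := by rw [pow_mul]
      _ = Nat.card B ^ n := by rw [hk]
      _ ≤ Nat.card M₁ ^ n := Nat.pow_le_pow_left hc₁ n
      _ = Nat.card U := hn.symm
      _ = 2 ^ l := hl
  have h7 : k ≤ 2 * n := (Nat.pow_le_pow_iff_right (by norm_num)).1 h5
  have h8 : k * n ≤ l := (Nat.pow_le_pow_iff_right (by norm_num)).1 h6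
  calc k * k ≤ k * (2 * n) := Nat.mul_le_mul_left _ h7
    _ = 2 * (k * n) := by ring
    _ ≤ 2 * l := Nat.mul_le_mul_left _ h8

end Cfsg.Agent.Omega.EH3.Clif

end

-- merged: Cfsg.Agent.Omega.EH3.Clif.IneqTwo
section

/-!
# Clifford step of EH3: the two factors swapped (helper291)

`ineq_two` : `|B'| ≤ 2^x` and `x² j = d log |U|` with `j ≥ 1`, `d ≤ 2`.
-/

set_option autoImplicit false

namespace Cfsg.Agent.Omega.EH3.Clif

open Module

section swp

variable {U : Type*} [AddCommGroup U] {S₁ S₂ : Type*} [Ring S₁] [Ring S₂] [Module S₁ U] [Module S₂ U]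

variable (S₁ S₂) in
/-- `g` carries the action of `S₁` to the action of `S₂` -/
def Swp (g : U ≃+ U) : Prop :=
  (∀ r : S₁, ∃ r' : S₂, ∀ v, g (r • v) = r' • g v) ∧ (∀ r' : S₂, ∃ r : S₁, ∀ v, g (r • v) = r' • g v)

/-- transport of submodules -/
def csw (g : U ≃+ U) (hg : Swp S₁ S₂ g) : Submodule S₁ U ≃o Submodule S₂ U where
  toFun M :=
    { carrier := {v | g.symm v ∈ M}
      zero_mem' := by
        show g.symm 0 ∈ M
        rw [map_zero]; exact M.zero_mem
      add_mem' := by
        intro u v hu hv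
        show g.symm (u + v) ∈ M
        rw [map_add]; exact M.add_mem hu hv
      smul_mem' := by
        intro r v hv
        show g.symm (r • v) ∈ M
        obtain ⟨r', hr'⟩ := hg.2 r
        have h1 : g.symm (r • v) = r' • g.symm v := by
          rw [g.symm_apply_eq, hr', g.apply_symm_apply]
        rw [h1]
        exact M.smul_mem _ hv }
  invFun M :=
    { carrier := {v | g v ∈ M}
      zero_mem' := by
        show g 0 ∈ M
        rw [map_zero]; exact M.zero_mem
      add_mem' := by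
        intro u v hu hv
        show g (u + v) ∈ M
        rw [map_add]; exact M.add_mem hu hv
      smul_mem' := by
        intro r v hv
        show g (r • v) ∈ M
        obtain ⟨r', hr'⟩ := hg.1 r
        rw [hr']
        exact M.smul_mem _ hv }
  left_inv := by
    intro M
    ext v
    show g.symm (g v) ∈ M ↔ _
    rw [g.symm_apply_apply]
  right_inv := by
    intro M
    ext v
    show g (g.symm v) ∈ M ↔ _
    rw [g.apply_symm_apply]
  map_rel_iff' := by
    intro M M'
    constructor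
    · intro h v hv
      have h1 : g v ∈ ({v | g.symm v ∈ M'} : Set U) := h (by
        show g.symm (g v) ∈ M
        rw [g.symm_apply_apply]; exact hv)
      have h2 : g.symm (g v) ∈ M' := h1
      rwa [g.symm_apply_apply] at h2
    · intro h v hv
      exact h hv

theorem mem_csw {g : U ≃+ U} {hg : Swp S₁ S₂ g} {M : Submodule S₁ U} {v : U} :
    v ∈ csw g hg M ↔ g.symm v ∈ M := Iff.rfl

theorem apply_mem_csw {g : U ≃+ U} {hg : Swp S₁ S₂ g} {M : Submodule S₁ U} {v : U} :
    g v ∈ csw g hg M ↔ v ∈ M := by rw [mem_csw, g.symm_apply_apply]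

theorem csw_simple {g : U ≃+ U} (hg : Swp S₁ S₂ g) {M : Submodule S₁ U} (hM : IsSimpleModule S₁ M) :
    IsSimpleModule S₂ (csw g hg M) := by
  rw [isSimpleModule_iff_isAtom] at hM ⊢
  exact (OrderIso.isAtom_iff (csw g hg) M).2 hM

theorem card_csw {g : U ≃+ U} (hg : Swp S₁ S₂ g) (M : Submodule S₁ U) :
    Nat.card (csw g hg M) = Nat.card M := by
  symm
  apply Nat.card_congr
  exact
    { toFun := fun v => ⟨g v, apply_mem_csw.2 v.2⟩
      invFun := fun v => ⟨g.symm v, v.2⟩
      left_inv := fun v => Subtype.ext (g.symm_apply_apply _)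
      right_inv := fun v => Subtype.ext (g.apply_symm_apply _) }

/-- in a simple submodule every vector is a multiple of a given nonzero one -/
theorem exists_smul {S : Type*} [Ring S] [Module S U] {M : Submodule S U} (hM : IsSimpleModule S M)
    {e t : U} (he : e ∈ M) (he0 : e ≠ 0) (ht : t ∈ M) : ∃ s : S, s • e = t := by
  rw [isSimpleModule_iff_isAtom] at hM
  have h1 : Submodule.span S {e} ≤ M := by
    rw [Submodule.span_singleton_le_iff_mem]; exact he
  rcases hM.le_iff.1 h1 with h | h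
  · exfalso
    apply he0
    rwa [Submodule.span_singleton_eq_bot] at h
  · rw [← h, Submodule.mem_span_singleton] at ht
    exact ht

end swp

variable {U : Type*} [AddCommGroup U] {R : Type*} [Ring R] [Module R U] {R₁ R₂ : Subring R}

/-- the lower bound -/
theorem lower [Finite U] (h2 : ∀ u : U, u + u = 0)
    (hc : ∀ x ∈ R₁, ∀ y ∈ R₂, x * y = y * x)
    {B : Type*} [Group B] [Finite B] (hB : ∀ b : B, b * b = 1) (β : Act B U)
    (B' : Subgroup B) (hidx : B'.index = 2)
    (hN₁ : ∀ b ∈ B', Nor R₁ (β b)) {b₀ : B} (hb₀ : b₀ ∉ B') (hsw : Swp R₁ R₂ (β b₀))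
    {e : U} (he : e ≠ 0) (hfe : ∀ b, β b e = e) (hfix : ∀ v, (∀ b, β b v = v) → v = 0 ∨ v = e)
    {M : Submodule R₁ U} (hM : IsSimpleModule R₁ M) (hinv : ∀ b ∈ B', ∀ v ∈ M, β b v ∈ M)
    (hk : Nat.card {b : B' // ∀ m ∈ M, β b m = m} ≤ 2) : Nat.card B' ≤ Nat.card M := by
  classical
  have hB' : ∀ b : B', b * b = 1 := fun b => Subtype.ext (hB b)
  have hcB := comm_of_sq hB
  set β' : Act B' U := β.comp B'.subtype with hβ'
  have hinv' : ∀ b : B', ∀ v ∈ M, β' b v ∈ M := fun b v hv => hinv b b.2 v hv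
  have : Nontrivial M := IsSimpleModule.nontrivial R₁ M
  obtain ⟨m₁, hm₁⟩ := exists_ne (0 : M)
  obtain ⟨m₀, hm₀M, hm₀0, hm₀⟩ := exists_fix h2 (isPGroup_two hB') β' M.toAddSubgroup hinv'
    ⟨m₁, m₁.2, fun h => hm₁ (Subtype.ext h)⟩
  by_cases hcase : ∀ v ∈ M, (∀ b, β' b v = v) → v = 0 ∨ v = m₀
  · exact count_sub h2 hB' β' M hinv' hm₀M hm₀0 hm₀ hcase hk
  push Not at hcase
  obtain ⟨v₁, hv₁M, hv₁, hv₁0, hv₁m⟩ := hcase
  -- decomposition of `B`
  have hdec : ∀ b, b ∉ B' → b₀⁻¹ * b ∈ B' := by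
    intro b hb
    have h1 := (Subgroup.mul_mem_iff_of_index_two hidx (a := b₀⁻¹) (b := b)).2
      (by rw [inv_mem_iff]; exact ⟨fun h => absurd h hb₀, fun h => absurd h hb⟩)
    exact h1
  have hfixB : ∀ t, (∀ b : B', β' b t = t) → β b₀ t = t → ∀ b, β b t = t := by
    intro t ht ht0 b
    by_cases hb : b ∈ B'
    · exact ht ⟨b, hb⟩
    · have h1 : b = b₀ * (b₀⁻¹ * b) := by group
      rw [h1, β.mul]
      have h3 := ht ⟨_, hdec b hb⟩
      have h4 : β (b₀⁻¹ * b) t = t := h3
      rw [h4, ht0]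
  have hb₀b₀ : ∀ v, β b₀ (β b₀ v) = v := fun v => by rw [← β.mul, hB, β.one]
  have hsum : ∀ t, (∀ b : B', β' b t = t) → t + β b₀ t = 0 ∨ t + β b₀ t = e := by
    intro t ht
    apply hfix
    apply hfixB
    · intro b
      have h3 : β b t = t := ht b
      show β b (t + β b₀ t) = t + β b₀ t
      rw [map_add, ← β.mul, hcB b b₀, β.mul, h3]
    · rw [map_add, hb₀b₀, add_comm]
  have eqz : ∀ {x y : U}, x + y = 0 → x = y := by
    intro x y h
    have : x + y = y + y := by rw [h, h2]
    exact add_right_cancel this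
  have hzero : ∀ t, (∀ b : B', β' b t = t) → t + β b₀ t = 0 → t = 0 ∨ t = e := by
    intro t ht h
    exact hfix t (hfixB t ht (eqz h).symm)
  have hne : ∀ t, (∀ b : B', β' b t = t) → t ≠ 0 → t ≠ e → β b₀ t = t + e := by
    intro t ht h0 h1
    rcases hsum t ht with h | h
    · rcases hzero t ht h with h' | h'
      · exact absurd h' h0
      · exact absurd h' h1
    · rw [← h, ← add_assoc, h2, zero_add]
  have hfe' : ∀ b : B', β' b e = e := fun b => hfe b
  -- `e ∈ M`
  have heM : e ∈ M := by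
    by_cases h0 : m₀ = e
    · rw [← h0]; exact hm₀M
    by_cases h1 : v₁ = e
    · rw [← h1]; exact hv₁M
    have h3 := hne m₀ hm₀ hm₀0 h0
    have h4 := hne v₁ hv₁ hv₁0 h1
    have h5 : (m₀ + v₁) + β b₀ (m₀ + v₁) = 0 := by
      rw [map_add, h3, h4]
      have : m₀ + v₁ + (m₀ + e + (v₁ + e)) = (m₀ + m₀) + (v₁ + v₁) + (e + e) := by abel
      rw [this]; simp only [h2]
    rcases hzero (m₀ + v₁) (fun b => by rw [map_add, hm₀, hv₁]) h5 with h6 | h6
    · exact absurd (eqz h6).symm hv₁m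
    · rw [← h6]; exact M.add_mem hm₀M hv₁M
  obtain ⟨t, htM, ht, ht0, hte⟩ : ∃ t ∈ M, (∀ b : B', β' b t = t) ∧ t ≠ 0 ∧ t ≠ e := by
    by_cases h0 : m₀ = e
    · exact ⟨v₁, hv₁M, hv₁, hv₁0, fun h => hv₁m (h.trans h0.symm)⟩
    · exact ⟨m₀, hm₀M, hm₀, hm₀0, h0⟩
  have hbt := hne t ht ht0 hte
  have hall : ∀ u, (∀ b : B', β' b u = u) → u = 0 ∨ u = e ∨ u = t ∨ u = t + e := by
    intro u hu
    by_cases h0 : u = 0
    · exact Or.inl h0
    by_cases h1 : u = e
    · exact Or.inr (Or.inl h1)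
    have h3 := hne u hu h0 h1
    have h5 : (u + t) + β b₀ (u + t) = 0 := by
      rw [map_add, h3, hbt]
      have : u + t + (u + e + (t + e)) = (u + u) + (t + t) + (e + e) := by abel
      rw [this]; simp only [h2]
    rcases hzero (u + t) (fun b => by rw [map_add, hu, ht]) h5 with h6 | h6
    · exact Or.inr (Or.inr (Or.inl (eqz h6)))
    · refine Or.inr (Or.inr (Or.inr ?_))
      rw [← h6]
      have : t + (u + t) = u + (t + t) := by abel
      rw [this, h2, add_zero]
  -- `y e = t`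
  have hM₂ := csw_simple hsw hM
  have heM₂ : e ∈ csw (β b₀) hsw M := by
    have h1 : β b₀ e ∈ csw (β b₀) hsw M := apply_mem_csw.2 heM
    rwa [hfe] at h1
  have htM₂ : t ∈ csw (β b₀) hsw M := by
    have h1 : β b₀ t ∈ csw (β b₀) hsw M := apply_mem_csw.2 htM
    rw [hbt] at h1
    have h3 := (csw (β b₀) hsw M).add_mem h1 heM₂
    rwa [add_assoc, h2, add_zero] at h3
  obtain ⟨y, hy⟩ := exists_smul hM₂ heM₂ he htM₂
  have hyx : ∀ (x : R₁) (u : U), y • (x • u) = x • (y • u) := by
    intro x u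
    show (y : R) • ((x : R) • u) = (x : R) • ((y : R) • u)
    rw [smul_smul, smul_smul, hc x x.2 y y.2]
  have hyM : ∀ m ∈ M, y • m ∈ M := by
    intro m hm
    obtain ⟨x, rfl⟩ := exists_smul hM heM he hm
    rw [hyx, hy]
    exact M.smul_mem x htM
  have hyB : ∀ (b : B') (m : U), m ∈ M → β' b (y • m) = y • β' b m := by
    intro b m hm
    obtain ⟨x, rfl⟩ := exists_smul hM heM he hm
    obtain ⟨x', hx'⟩ := (hN₁ b b.2).2 x
    have hx'' : ∀ w, β' b (x • w) = x' • β' b w := by
      intro w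
      have h3 := hx' (β b w)
      rw [AddEquiv.symm_apply_apply] at h3
      show β b (x • w) = x' • β b w
      rw [h3, AddEquiv.apply_symm_apply]
    rw [hyx, hy, hx'', hx'', ht, hfe', hyx, hy]
  let δ : Module.End R₁ M :=
    { toFun := fun m => ⟨y • (m : U), hyM m m.2⟩
      map_add' := fun _ _ => Subtype.ext (smul_add _ _ _)
      map_smul' := fun x m => Subtype.ext (hyx x m) }
  have hδinj : Function.Injective δ := by
    rcases δ.injective_or_eq_zero with h | h
    · exact h
    · exfalso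
      apply ht0
      have h3 := congrArg Subtype.val (LinearMap.congr_fun h ⟨e, heM⟩)
      have h4 : y • e = 0 := h3
      rw [← hy, h4]
  have hyinj : ∀ u ∈ M, ∀ v ∈ M, y • u = y • v → u = v := by
    intro u hu v hv h
    exact congrArg Subtype.val (hδinj (a₁ := ⟨u, hu⟩) (a₂ := ⟨v, hv⟩) (Subtype.ext h))
  have hyt : y • t = t + e := by
    rcases hall (y • t) (fun b => by rw [hyB b t htM, ht]) with h | h | h | h
    · exfalso
      apply ht0
      exact hyinj t htM 0 M.zero_mem (by rw [h, smul_zero])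
    · exfalso
      -- `(δ - 1)² e = 0`
      have h3 : (δ - 1) ((δ - 1) ⟨e, heM⟩) = 0 := by
        apply Subtype.ext
        show y • (y • e - e) - (y • e - e) = 0
        rw [hy, smul_sub, h, hy]
        have h4 : e - t - (t - e) = (e + e) - (t + t) := by abel
        rw [h4, h2, h2, sub_zero]
      apply hte
      rcases (δ - 1).injective_or_eq_zero with h4 | h4
      · have h5 := h4 (h3.trans (map_zero _).symm)
        have h6 : y • e - e = 0 := congrArg Subtype.val h5
        rw [hy] at h6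
        exact sub_eq_zero.1 h6
      · have h5 := congrArg Subtype.val (LinearMap.congr_fun h4 ⟨e, heM⟩)
        have h6 : y • e - e = 0 := h5
        rw [hy] at h6
        exact sub_eq_zero.1 h6
    · exfalso
      apply hte
      exact hyinj t htM e heM (by rw [h, hy])
    · exact h
  have hc1 := count' (V := M) (fun v => Subtype.ext (h2 v)) (res β' M hinv') (e := ⟨e, heM⟩)
    (fun h => he (congrArg Subtype.val h)) (fun b => Subtype.ext (hfe' b)) (by
      rintro c ⟨v, hv⟩
      let W : AddSubgroup M :=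
        { carrier := {w | ∃ u, res β' M hinv' c u + u = w}
          zero_mem' := ⟨0, by rw [map_zero, add_zero]⟩
          add_mem' := by
            rintro _ _ ⟨u, rfl⟩ ⟨u', rfl⟩
            exact ⟨u + u', by rw [map_add]; abel⟩
          neg_mem' := by
            rintro _ ⟨u, rfl⟩
            exact ⟨-u, by rw [map_neg]; abel⟩ }
      have hW : ∀ w : M, w ∈ W → ∀ w' : M, (w' : U) = y • (w : U) → w' ∈ W := by
        rintro _ ⟨u, rfl⟩ w' hw'
        refine ⟨⟨y • (u : U), hyM u u.2⟩, ?_⟩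
        apply Subtype.ext
        rw [hw']
        show β' c (y • (u : U)) + y • (u : U) = y • (β' c u + (u : U))
        rw [hyB c u u.2, smul_add]
      obtain ⟨w, hwW, hw0, hw⟩ := exists_fix (V := M) (fun v => Subtype.ext (h2 v))
        (isPGroup_two hB') (res β' M hinv') W (by
          rintro b _ ⟨u, rfl⟩
          refine ⟨res β' M hinv' b u, ?_⟩
          rw [map_add, ← (res β' M hinv').mul, ← (res β' M hinv').mul, comm_of_sq hB']) ⟨_, ⟨v, rfl⟩, by
            intro h
            apply hv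
            have : res β' M hinv' c v + v = v + v := by
              rw [h]; exact (Subtype.ext (h2 v)).symm
            exact add_right_cancel this⟩
      have hw' : ∀ b, β' b w = w := fun b => congrArg Subtype.val (hw b)
      have hgoal : (⟨e, heM⟩ : M) ∈ W := by
        rcases hall w hw' with h | h | h | h
        · exact absurd (Subtype.ext h) hw0
        · have : w = ⟨e, heM⟩ := Subtype.ext h
          rw [← this]; exact hwW
        · have h3 := W.add_mem (hW w hwW ⟨t + e, M.add_mem htM heM⟩ (by rw [h, hyt])) hwW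
          have h4 : (⟨t + e, M.add_mem htM heM⟩ : M) + w = ⟨e, heM⟩ := by
            apply Subtype.ext
            show t + e + (w : U) = e
            rw [h, add_right_comm, h2, zero_add]
          rwa [h4] at h3
        · apply hW w hwW
          rw [h, smul_add, hyt, hy, add_right_comm, h2, zero_add]
      exact hgoal)
  have h3 : Nat.card {b : B' // ∀ v, res β' M hinv' b v = v} ≤ 2 := by
    refine le_trans (le_of_eq ?_) hk
    apply Nat.card_congr
    apply Equiv.subtypeEquivRight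
    intro b
    constructor
    · intro h m hm
      exact congrArg Subtype.val (h ⟨m, hm⟩)
    · intro h v
      exact Subtype.ext (h v v.2)
  have h4 : Nat.card B' * 2 ≤ 2 * Nat.card M := hc1.trans (Nat.mul_le_mul_right _ h3)
  omega

/-- **the two factors swapped** -/
theorem ineq_two [Finite U] (h2 : ∀ u : U, u + u = 0) (hs : IsSimpleModule R U)
    (hc : ∀ x ∈ R₁, ∀ y ∈ R₂, x * y = y * x) (hg : R₁ ⊔ R₂ = ⊤)
    {B : Type*} [Group B] [Finite B] (hB : ∀ b : B, b * b = 1) (β : Act B U)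
    (hN : ∀ b, Nor R (β b)) (B' : Subgroup B) (hidx : B'.index = 2)
    (hN₁ : ∀ b ∈ B', Nor R₁ (β b)) {b₀ : B} (hb₀ : b₀ ∉ B') (hsw : Swp R₁ R₂ (β b₀))
    {e : U} (he : e ≠ 0) (hfe : ∀ b, β b e = e) (hfix : ∀ v, (∀ b, β b v = v) → v = 0 ∨ v = e)
    (hk : ∀ M : Submodule R₁ U, IsSimpleModule R₁ M →
      Nat.card {b : B' // ∀ m ∈ M, β b m = m} ≤ 2)
    {k l : ℕ} (hkk : Nat.card B' = 2 ^ k) (hl : Nat.card U = 2 ^ l) :
    ∃ x j d, k ≤ x ∧ 1 ≤ j ∧ d ≤ 2 ∧ x * x * j = d * l := by
  have : Nontrivial U := IsSimpleModule.nontrivial R U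
  have hg' : R₂ ⊔ R₁ = ⊤ := by rw [sup_comm]; exact hg
  have hc' : ∀ x ∈ R₂, ∀ y ∈ R₁, x * y = y * x := fun x hx y hy => (hc y hy x hx).symm
  have hB' : ∀ b : B', b * b = 1 := fun b => Subtype.ext (hB b)
  obtain ⟨M, hM, hinv, m, hmM, hm0, -⟩ := exists_simple h2
    (fun M hM => iso_top hs hc hg hM) (isPGroup_two hB') (β.comp B'.subtype) (fun b => hN₁ b b.2)
  have hlow := lower h2 hc hB β B' hidx hN₁ hb₀ hsw he hfe hfix hM
    (fun b hb => hinv ⟨b, hb⟩) (hk M hM)
  have hE : Nat.card (Module.End R₁ M) ≤ 4 :=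
    (end_le hs hc hg hM).trans (end_le_four h2 hB β hN hs he hfe hfix)
  obtain ⟨n, hn, Y, hmY, hY⟩ := hom_sub hs hc hg hM hmM hm0
  have hM₂ := csw_simple hsw hM
  obtain ⟨j, hj⟩ := card_sub hM₂ (iso_top hs hc' hg' hM₂) Y
  rw [card_csw] at hj
  have hp : Nat.Prime 2 := Nat.prime_two
  have hMdvd : Nat.card M ∣ 2 ^ l := by
    rw [← hl]
    exact AddSubgroup.card_addSubgroup_dvd_card M.toAddSubgroup
  obtain ⟨x, -, hx⟩ := (Nat.dvd_prime_pow hp).1 hMdvd
  have hMne : Nat.card M ≠ 1 := by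
    have : Nontrivial M := IsSimpleModule.nontrivial R₁ M
    exact Finite.one_lt_card.ne'
  have hx0 : x ≠ 0 := by rintro rfl; exact hMne hx
  have hl0 : l ≠ 0 := by
    rintro rfl
    rw [pow_zero] at hl
    exact (Finite.one_lt_card (α := U)).ne' hl
  have hn0 : n ≠ 0 := by
    rintro rfl
    rw [pow_zero] at hn
    exact (Finite.one_lt_card (α := U)).ne' hn
  have hj0 : j ≠ 0 := by
    rintro rfl
    rw [pow_zero] at hj
    have : Nontrivial Y := ⟨⟨⟨m, hmY⟩, 0, fun h => hm0 (congrArg Subtype.val h)⟩⟩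
    exact (Finite.one_lt_card (α := Y)).ne' hj
  have hDdvd : Nat.card (Module.End R₁ M) ∣ 2 ^ (x * j) := by
    have h1 : Nat.card (Module.End R₁ M) ∣ Nat.card (Module.End R₁ M) ^ n := dvd_pow_self _ hn0
    rwa [← hY, hj, hx, ← pow_mul] at h1
  obtain ⟨d, -, hd⟩ := (Nat.dvd_prime_pow hp).1 hDdvd
  have hd2 : d ≤ 2 := by
    rw [hd] at hE
    have : 2 ^ d ≤ 2 ^ 2 := hE
    exact (Nat.pow_le_pow_iff_right (by norm_num)).1 this
  have h5 : x * j = d * n := by
    have h6 : 2 ^ (x * j) = 2 ^ (d * n) := by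
      rw [pow_mul, ← hx, ← hj, hY, hd, ← pow_mul]
    exact Nat.pow_right_injective (le_refl 2) h6
  have h7 : l = x * n := by
    have h6 : 2 ^ l = 2 ^ (x * n) := by
      rw [pow_mul, ← hx, ← hn, hl]
    exact Nat.pow_right_injective (le_refl 2) h6
  refine ⟨x, j, d, ?_, Nat.one_le_iff_ne_zero.2 hj0, hd2, ?_⟩
  · rw [hkk, hx] at hlow
    exact (Nat.pow_le_pow_iff_right (by norm_num)).1 hlow
  · rw [h7, mul_assoc, h5]; ring

end Cfsg.Agent.Omega.EH3.Clif

end

-- merged: Cfsg.Agent.Omega.EH3.Clif.Sys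
section

/-!
# Clifford step of EH3: homogeneous components under a `2`-group with fixed space `{0, a}` (helper291)

`V` a finite semisimple `R`-module, `X` an elementary abelian `2`-group normalising `R` with `C_V(X) = {0, a}`.
* `trans` : `X` is transitive on the homogeneous components;
* `fixc` : `C_c(B) = {0, e}`, `B` the stabiliser of the component `c`;
* `card_V`, `card_X`, `card_B` : the orders.
-/

set_option autoImplicit false

namespace Cfsg.Agent.Omega.EH3.Clif

open Module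

variable {V : Type*} [AddCommGroup V] {R : Type*} [Ring R] [Module R V]

theorem cs_comp_le (g : V ≃+ V) (hg : Nor R g) (S : Submodule R V) :
    cs g hg (isotypicComponent R V S) ≤ isotypicComponent R V (cs g hg S) := by
  have h1 : cs g hg (isotypicComponent R V S) = csIso g hg (sSup {m | Nonempty (m ≃ₗ[R] S)}) := rfl
  rw [h1, OrderIso.map_sSup]
  apply iSup₂_le
  rintro m ⟨φ⟩
  exact le_sSup ⟨ctEquiv g hg φ⟩

theorem cs_comp (g : V ≃+ V) (hg : Nor R g) (S : Submodule R V) :
    cs g hg (isotypicComponent R V S) = isotypicComponent R V (cs g hg S) := by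
  apply le_antisymm (cs_comp_le g hg S)
  have h1 := cs_mono hg (cs_comp_le g.symm hg.symm (cs g hg S))
  have h2 := cs_cs_symm hg (isotypicComponent R V (cs g hg S))
  rw [h2] at h1
  have h3 : cs g.symm hg.symm (cs g hg S) = S := cs_symm_cs hg S
  rw [h3] at h1
  exact h1

theorem cs_mem (g : V ≃+ V) (hg : Nor R g) {c : Submodule R V} (hc : c ∈ isotypicComponents R V) :
    cs g hg c ∈ isotypicComponents R V := by
  obtain ⟨S, hS, rfl⟩ := hc
  exact ⟨cs g hg S, cs_simple hg hS, cs_comp g hg S⟩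

section sys

variable {X : Type*} [Group X]

/-- `X` acts on the homogeneous components -/
@[instance_reducible] def actC (β : Act X V) (hN : ∀ x, Nor R (β x)) : MulAction X (isotypicComponents R V) where
  smul x c := ⟨cs (β x) (hN x) c, cs_mem _ _ c.2⟩
  one_smul := fun M => by
    apply Subtype.ext
    show cs (β 1) (hN 1) M.1 = M.1
    ext v
    rw [mem_cs, β.symm_apply, inv_one, β.one]
  mul_smul := fun b c M => by
    apply Subtype.ext
    show cs (β (b * c)) (hN (b * c)) M.1 = cs (β b) (hN b) (cs (β c) (hN c) M.1)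
    ext v
    rw [mem_cs, mem_cs, mem_cs, β.symm_apply, β.symm_apply, β.symm_apply, mul_inv_rev, β.mul]

variable [Finite V] [IsSemisimpleModule R V]

omit [Finite V] [IsSemisimpleModule R V] in
theorem indep : iSupIndep (fun c : isotypicComponents R V => (c : Submodule R V)) := by
  rw [← sSupIndep_iff]
  exact sSupIndep_isotypicComponents R V

omit [Finite V] in
theorem iSup_top : (⨆ c : isotypicComponents R V, (c : Submodule R V)) = ⊤ := by
  rw [← sSup_eq_iSup', sSup_isotypicComponents]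

variable (h2 : ∀ v : V, v + v = 0) (hX : ∀ x : X, x * x = 1)
  (β : Act X V) (hN : ∀ x, Nor R (β x)) {a : V} (ha : a ≠ 0)
  (hfix : ∀ v, (∀ x, β x v = v) → v = 0 ∨ v = a)

include h2 hX hfix in
/-- an `X`-invariant subgroup `≠ 0` contains `a` -/
theorem mem_a (W : AddSubgroup V) (hinv : ∀ x, ∀ v ∈ W, β x v ∈ W) (hne : ∃ v ∈ W, v ≠ 0) : a ∈ W := by
  obtain ⟨v, hv, hv0, hvf⟩ := exists_fix h2 (isPGroup_two hX) β W hinv hne
  rcases hfix v hvf with h | h
  · exact absurd h hv0
  · rw [← h]; exact hv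

omit [IsSemisimpleModule R V] in
include h2 hX hfix ha in
/-- **transitivity** -/
theorem trans (c c' : isotypicComponents R V) :
    ∃ x, cs (β x) (hN x) (c : Submodule R V) = (c' : Submodule R V) := by
  classical
  by_contra hcon
  push Not at hcon
  let O : Set (isotypicComponents R V) := {d | ∃ x, cs (β x) (hN x) (c : Submodule R V) = (d : Submodule R V)}
  have hc'O : c' ∉ O := by
    rintro ⟨x, hx⟩
    exact hcon x hx
  have hcO : c ∈ O := by
    refine ⟨1, ?_⟩
    ext v
    rw [mem_cs, β.symm_apply, inv_one, β.one]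
  have : Finite (isotypicComponents R V) := Subtype.finite
  have hdis := (indep (R := R) (V := V)).disjoint_biSup_biSup' (s := O) (t := Oᶜ) disjoint_compl_right
    (Set.toFinite _)
  have hcs : ∀ (x y : X) (d : Submodule R V), cs (β x) (hN x) (cs (β y) (hN y) d) =
      cs (β (x * y)) (hN (x * y)) d := by
    intro x y d
    ext v
    rw [mem_cs, mem_cs, mem_cs, β.symm_apply, β.symm_apply, β.symm_apply, mul_inv_rev, β.mul]
  have hO : ∀ (x : X) (d : isotypicComponents R V), d ∈ O →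
      (⟨cs (β x) (hN x) d, cs_mem _ _ d.2⟩ : isotypicComponents R V) ∈ O := by
    rintro x d ⟨y, hy⟩
    refine ⟨x * y, ?_⟩
    rw [← hcs, hy]
  have hO' : ∀ (x : X) (d : isotypicComponents R V), d ∉ O →
      (⟨cs (β x) (hN x) d, cs_mem _ _ d.2⟩ : isotypicComponents R V) ∉ O := by
    rintro x d hd hcon'
    apply hd
    have h1 := hO x⁻¹ _ hcon'
    have h3 : (⟨cs (β x⁻¹) (hN x⁻¹) (cs (β x) (hN x) d), cs_mem _ _ (cs_mem _ _ d.2)⟩ :
        isotypicComponents R V) = d := by
      apply Subtype.ext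
      show cs (β x⁻¹) (hN x⁻¹) (cs (β x) (hN x) (d : Submodule R V)) = d
      rw [hcs, ]
      ext v
      rw [mem_cs, β.symm_apply, inv_mul_cancel, inv_one, β.one]
    have h4 : (⟨cs (β x⁻¹) (hN x⁻¹) (cs (β x) (hN x) d), cs_mem _ _ (cs_mem _ _ d.2)⟩ :
        isotypicComponents R V) ∈ O := h1
    rwa [h3] at h4
  have key : ∀ (Q : Set (isotypicComponents R V)), Q.Nonempty →
      (∀ (x : X) (d : isotypicComponents R V), d ∈ Q →
        (⟨cs (β x) (hN x) d, cs_mem _ _ d.2⟩ : isotypicComponents R V) ∈ Q) →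
      a ∈ (⨆ i ∈ Q, (i : Submodule R V)) := by
    intro Q hQ hinv
    refine mem_a h2 hX β hfix (⨆ i ∈ Q, (i : Submodule R V)).toAddSubgroup ?_ ?_
    · intro x v hv
      have h1 : csIso (β x) (hN x) (⨆ i ∈ Q, (i : Submodule R V)) ≤ ⨆ i ∈ Q, (i : Submodule R V) := by
        rw [OrderIso.map_iSup]
        apply iSup_le
        intro i
        rw [OrderIso.map_iSup]
        apply iSup_le
        intro hi
        exact le_iSup₂_of_le (⟨cs (β x) (hN x) i, cs_mem _ _ i.2⟩ : isotypicComponents R V) (hinv x i hi) le_rfl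
      exact h1 ((apply_mem_cs (hg := hN x)).2 hv)
    · obtain ⟨d, hd⟩ := hQ
      obtain ⟨v, hv, hv0⟩ := Submodule.exists_mem_ne_zero_of_ne_bot (bot_lt_isotypicComponents d.2).ne'
      exact ⟨v, (le_iSup₂_of_le (f := fun (i : isotypicComponents R V) (_ : i ∈ Q) => (i : Submodule R V))
        d hd le_rfl) hv, hv0⟩
  have h3 := key O ⟨c, hcO⟩ hO
  have h4 := key Oᶜ ⟨c', hc'O⟩ hO'
  exact ha ((Submodule.disjoint_def.1 hdis) a h3 h4)

/-- the stabiliser of a submodule -/
def stab (hX : ∀ x : X, x * x = 1) (c : Submodule R V) : Subgroup X where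
  carrier := {x | ∀ v ∈ c, β x v ∈ c}
  one_mem' := by
    intro v hv
    rw [β.one]; exact hv
  mul_mem' := by
    intro x y hx hy v hv
    rw [β.mul]; exact hx _ (hy v hv)
  inv_mem' := by
    intro x hx
    have : x⁻¹ = x := inv_eq_of_mul_eq_one_left (hX x)
    rw [this]; exact hx

omit [Finite V] [IsSemisimpleModule R V] in
theorem mem_stab {c : Submodule R V} {x : X} : x ∈ stab β hX c ↔ ∀ v ∈ c, β x v ∈ c := Iff.rfl

omit [Finite V] [IsSemisimpleModule R V] in
include hX in
theorem symm_self (x : X) (v : V) : (β x).symm v = β x v := by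
  rw [β.symm_apply, inv_eq_of_mul_eq_one_left (hX x)]

omit [Finite V] [IsSemisimpleModule R V] in
include hX in
theorem β_β (x : X) (v : V) : β x (β x v) = v := by rw [← β.mul, hX, β.one]

omit [Finite V] [IsSemisimpleModule R V] in
theorem mem_stab' {c : Submodule R V} {x : X} : x ∈ stab β hX c ↔ cs (β x) (hN x) c = c := by
  constructor
  · intro h
    ext v
    rw [mem_cs, symm_self hX β]
    constructor
    · intro hv
      have h1 := h _ hv
      rwa [β_β hX β] at h1
    · exact h v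
  · intro h v hv
    rw [← h]
    exact apply_mem_cs.2 hv

include h2 hX hfix ha hN in
/-- induction over the translates of a component -/
theorem induct (c : isotypicComponents R V) (P : V → Prop) (h0 : P 0)
    (hadd : ∀ u v, P u → P v → P (u + v)) (hx : ∀ x, ∀ v ∈ (c : Submodule R V), P (β x v)) : ∀ v, P v := by
  intro v
  have hv : v ∈ (⨆ d : isotypicComponents R V, (d : Submodule R V)) := by
    rw [iSup_top]; exact Submodule.mem_top
  induction hv using Submodule.iSup_induction' with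
  | mem i x hx' =>
    obtain ⟨y, hy⟩ := trans h2 hX β hN ha hfix c i
    rw [← hy, mem_cs] at hx'
    have h1 := hx y _ hx'
    rwa [AddEquiv.apply_symm_apply] at h1
  | zero => exact h0
  | add x y _ _ hx hy => exact hadd x y hx hy

include h2 hX hfix ha hN in
/-- faithfulness on a component -/
theorem faithful (c : isotypicComponents R V) {x : X}
    (hx : ∀ v ∈ (c : Submodule R V), β x v = v) : ∀ v, β x v = v := by
  apply induct h2 hX β hN ha hfix c
  · exact map_zero _
  · intro u v hu hv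
    rw [map_add, hu, hv]
  · intro y v hv
    rw [← β.mul, comm_of_sq hX x y, β.mul, hx v hv]

include h2 hX hfix ha hN in
/-- **`C_c(B) = {0, e}`** -/
theorem fixc [Finite X] (c : isotypicComponents R V) :
    ∃ e ∈ (c : Submodule R V), e ≠ 0 ∧ (∀ b ∈ stab β hX (c : Submodule R V), β b e = e) ∧
      ∀ v ∈ (c : Submodule R V), (∀ b ∈ stab β hX (c : Submodule R V), β b v = v) → v = 0 ∨ v = e := by
  classical
  set B := stab β hX (c : Submodule R V) with hB
  -- the sum over the cosets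
  have hg : ∀ v, (∀ b ∈ B, β b v = v) → ∀ x y : X, (QuotientGroup.leftRel B) x y → β x v = β y v := by
    intro v hv x y hxy
    rw [QuotientGroup.leftRel_apply] at hxy
    have h1 := hv _ hxy
    rw [β.mul] at h1
    calc β x v = β x (β x⁻¹ (β y v)) := by rw [h1]
      _ = β y v := β.apply_inv x _
  have : Fintype (X ⧸ B) := Fintype.ofFinite _
  let g : ∀ v, (∀ b ∈ B, β b v = v) → (X ⧸ B) → V := fun v hv q => Quotient.liftOn' q (fun x => β x v) (hg v hv)
  have hgx : ∀ v hv (x : X) (q : X ⧸ B), β x (g v hv q) = g v hv (x • q) := by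
    intro v hv x q
    induction q using QuotientGroup.induction_on with
    | H y => exact (β.mul x y v).symm
  have hFfix : ∀ v hv (x : X), β x (∑ q, g v hv q) = ∑ q, g v hv q := by
    intro v hv x
    rw [map_sum]
    rw [Finset.sum_congr rfl fun q _ => hgx v hv x q]
    exact Equiv.sum_comp (MulAction.toPerm x) (g v hv)
  have hdis : Disjoint (c : Submodule R V) (⨆ (d : isotypicComponents R V) (_ : d ≠ c), (d : Submodule R V)) :=
    (indep (R := R) (V := V)) c
  have hF0 : ∀ v hv, v ∈ (c : Submodule R V) → ∑ q, g v hv q = 0 → v = 0 := by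
    intro v hv hvc h0
    have h1 : ∑ q, g v hv q = g v hv ((1 : X) : X ⧸ B) + ∑ q ∈ Finset.univ.erase ((1 : X) : X ⧸ B), g v hv q := by
      rw [Finset.add_sum_erase _ _ (Finset.mem_univ _)]
    have h3 : g v hv ((1 : X) : X ⧸ B) = v := β.one v
    rw [h1, h3] at h0
    have h4 : ∑ q ∈ Finset.univ.erase ((1 : X) : X ⧸ B), g v hv q ∈
        (⨆ (d : isotypicComponents R V) (_ : d ≠ c), (d : Submodule R V)) := by
      apply Submodule.sum_mem
      intro q hq
      rw [Finset.mem_erase] at hq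
      induction q using QuotientGroup.induction_on with
      | H y =>
        have hy : y ∉ B := by
          intro hyB
          apply hq.1
          rw [QuotientGroup.eq, mul_one]
          exact B.inv_mem hyB
        have h5 : (⟨cs (β y) (hN y) c, cs_mem _ _ c.2⟩ : isotypicComponents R V) ≠ c := by
          intro h6
          apply hy
          rw [hB, mem_stab' hX β hN]
          exact congrArg Subtype.val h6
        exact (le_iSup₂_of_le (f := fun (d : isotypicComponents R V) (_ : d ≠ c) => (d : Submodule R V))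
          _ h5 le_rfl) ((apply_mem_cs (hg := hN y)).2 hvc)
    have h5 : v = -∑ q ∈ Finset.univ.erase ((1 : X) : X ⧸ B), g v hv q := eq_neg_of_add_eq_zero_left h0
    have h6 : v ∈ (⨆ (d : isotypicComponents R V) (_ : d ≠ c), (d : Submodule R V)) := by
      rw [h5]; exact Submodule.neg_mem _ h4
    exact (Submodule.disjoint_def.1 hdis) v hvc h6
  have hF1 : ∀ v hv, v ∈ (c : Submodule R V) → v ≠ 0 → ∑ q, g v hv q = a := by
    intro v hv hvc hv0
    rcases hfix _ (hFfix v hv) with h | h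
    · exact absurd (hF0 v hv hvc h) hv0
    · exact h
  -- existence
  have hBp : IsPGroup 2 B := isPGroup_two fun b => Subtype.ext (hX b)
  obtain ⟨u, hu, hu0⟩ := Submodule.exists_mem_ne_zero_of_ne_bot (bot_lt_isotypicComponents c.2).ne'
  obtain ⟨e, hec, he0, he⟩ := exists_fix h2 hBp (β.comp B.subtype) (c : Submodule R V).toAddSubgroup
    (fun b v hv => b.2 v hv) ⟨u, hu, hu0⟩
  have he' : ∀ b ∈ B, β b e = e := fun b hb => he ⟨b, hb⟩
  refine ⟨e, hec, he0, he', ?_⟩
  intro v hvc hv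
  by_cases hv0 : v = 0
  · exact Or.inl hv0
  right
  have hve : ∀ b ∈ B, β b (v + e) = v + e := fun b hb => by rw [map_add, hv b hb, he' b hb]
  have h7 : ∑ q, g (v + e) hve q = 0 := by
    have h8 : ∀ q, g (v + e) hve q = g v hv q + g e he' q := by
      intro q
      induction q using QuotientGroup.induction_on with
      | H y => exact map_add (β y) v e
    rw [Finset.sum_congr rfl fun q _ => h8 q, Finset.sum_add_distrib, hF1 v hv hvc hv0,
      hF1 e he' hec he0, h2]
  have h9 := hF0 (v + e) hve (Submodule.add_mem _ hvc hec) h7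
  have : v + e = e + e := by rw [h9, h2]
  exact add_right_cancel this

include h2 hX hfix ha hN in
/-- **the orders** -/
theorem card_V (c : isotypicComponents R V) :
    Nat.card V = Nat.card (c : Submodule R V) ^ Nat.card (isotypicComponents R V) := by
  classical
  have : Finite (isotypicComponents R V) := Subtype.finite
  have := Fintype.ofFinite (isotypicComponents R V)
  have hint := DirectSum.isInternal_submodule_of_iSupIndep_of_iSup_eq_top (indep (R := R) (V := V))
    (iSup_top (R := R) (V := V))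
  have e1 := Equiv.ofBijective _ hint
  rw [← Nat.card_congr e1, Nat.card_congr (DirectSum.addEquivProd
    (fun d : isotypicComponents R V => (d : Submodule R V))).toEquiv, Nat.card_pi]
  rw [Finset.prod_congr rfl (g := fun _ => Nat.card (c : Submodule R V)), Finset.prod_const,
    Finset.card_univ, Nat.card_eq_fintype_card (α := isotypicComponents R V)]
  intro d _
  obtain ⟨x, hx⟩ := trans h2 hX β hN ha hfix c d
  have key : ∀ v : V, v ∈ (d : Submodule R V) → (β x).symm v ∈ (c : Submodule R V) := by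
    intro v hv
    rw [← hx] at hv
    exact hv
  symm
  apply Nat.card_congr
  exact
    { toFun := fun v => ⟨β x v, by rw [← hx]; exact apply_mem_cs.2 v.2⟩
      invFun := fun v => ⟨(β x).symm v, key v v.2⟩
      left_inv := fun v => Subtype.ext (AddEquiv.symm_apply_apply _ _)
      right_inv := fun v => Subtype.ext (AddEquiv.apply_symm_apply _ _) }

include h2 hX hfix ha hN in
theorem card_X [Finite X] (c : isotypicComponents R V) :
    Nat.card X = Nat.card (isotypicComponents R V) * Nat.card (stab β hX (c : Submodule R V)) := by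
  classical
  let _ : MulAction X (isotypicComponents R V) := actC β hN
  have e1 := MulAction.orbitProdStabilizerEquivGroup X c
  have h1 : MulAction.orbit X c = Set.univ := by
    rw [Set.eq_univ_iff_forall]
    intro d
    obtain ⟨x, hx⟩ := trans h2 hX β hN ha hfix c d
    exact ⟨x, Subtype.ext hx⟩
  have h3 : MulAction.stabilizer X c = stab β hX (c : Submodule R V) := by
    ext x
    rw [MulAction.mem_stabilizer_iff, mem_stab' hX β hN]
    constructor
    · intro h
      exact congrArg Subtype.val h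
    · intro h
      exact Subtype.ext h
  rw [← Nat.card_congr e1, Nat.card_prod, h1, Nat.card_univ, h3]

include h2 hX hfix ha hN in
theorem card_B [Finite X] (hfaith : ∀ x, (∀ v, β x v = v) → x = 1) (c : isotypicComponents R V) :
    Nat.card (stab β hX (c : Submodule R V)) * 2 ≤ Nat.card (c : Submodule R V) := by
  obtain ⟨e, hec, he0, he, hfe⟩ := fixc h2 hX β hN ha hfix c
  set B := stab β hX (c : Submodule R V) with hB
  have hBB : ∀ b : B, b * b = 1 := fun b => Subtype.ext (hX b)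
  have h1 := count_one (V := (c : Submodule R V)) (fun v => Subtype.ext (h2 v)) (isPGroup_two hBB)
    (comm_of_sq hBB) (res (β.comp B.subtype) (c : Submodule R V) (fun b v hv => b.2 v hv))
    (e := ⟨e, hec⟩) (fun h => he0 (congrArg Subtype.val h)) (fun b => Subtype.ext (he b b.2)) (by
      intro v hv
      rcases hfe v v.2 (fun b hb => congrArg Subtype.val (hv ⟨b, hb⟩)) with h | h
      · exact Or.inl (Subtype.ext h)
      · exact Or.inr (Subtype.ext h))
  have h3 : Nat.card {b : B // ∀ v, res (β.comp B.subtype) (c : Submodule R V)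
      (fun b v hv => b.2 v hv) b v = v} = 1 := by
    rw [Nat.card_eq_one_iff_unique]
    constructor
    · constructor
      rintro ⟨b, hb⟩ ⟨b', hb'⟩
      have key : ∀ b : B, (∀ v, res (β.comp B.subtype) (c : Submodule R V)
          (fun b v hv => b.2 v hv) b v = v) → b = 1 := by
        intro b hb
        apply Subtype.ext
        apply hfaith
        apply faithful h2 hX β hN ha hfix c
        intro v hv
        exact congrArg Subtype.val (hb ⟨v, hv⟩)
      apply Subtype.ext
      show b = b'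
      rw [key b hb, key b' hb']
    · exact ⟨⟨1, fun v => Subtype.ext (β.one _)⟩⟩
  rw [h3, one_mul] at h1
  exact h1

include h2 hX hfix ha hN in
/-- **at most two components** -/
theorem card_le_two [Finite X] (hfaith : ∀ x, (∀ v, β x v = v) → x = 1) (c : isotypicComponents R V)
    {w : ℕ} (hw : 5 ≤ w) (hcV : Nat.card V = 2 ^ (2 * w)) (hcX : Nat.card X = 2 ^ (w - 1)) :
    Nat.card (isotypicComponents R V) = 1 ∨ Nat.card (isotypicComponents R V) = 2 := by
  have h1 := card_V h2 hX β hN ha hfix c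
  have h3 := card_X h2 hX β hN ha hfix c
  have h4 := card_B h2 hX β hN ha hfix hfaith c
  have hp : Nat.Prime 2 := Nat.prime_two
  obtain ⟨k, -, hk⟩ := (Nat.dvd_prime_pow hp).1
    (show Nat.card (isotypicComponents R V) ∣ 2 ^ (w - 1) by rw [← hcX, h3]; exact dvd_mul_right _ _)
  obtain ⟨j, -, hj⟩ := (Nat.dvd_prime_pow hp).1
    (show Nat.card (stab β hX (c : Submodule R V)) ∣ 2 ^ (w - 1) by rw [← hcX, h3]; exact dvd_mul_left _ _)
  obtain ⟨m, -, hm⟩ := (Nat.dvd_prime_pow hp).1
    (show Nat.card (c : Submodule R V) ∣ 2 ^ (2 * w) by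
      rw [← hcV]; exact AddSubgroup.card_addSubgroup_dvd_card (c : Submodule R V).toAddSubgroup)
  rw [hk, hj, hcX, ← pow_add] at h3
  rw [hm, hj, ← pow_succ] at h4
  rw [hk, hm, hcV, ← pow_mul] at h1
  have h5 : w - 1 = k + j := Nat.pow_right_injective (le_refl 2) h3
  have h6 : 2 * w = m * 2 ^ k := Nat.pow_right_injective (le_refl 2) h1
  have h7 : j + 1 ≤ m := (Nat.pow_le_pow_iff_right (by norm_num)).1 h4
  rw [hk]
  have hk4 : ∀ k, 4 ≤ k → 2 * k + 3 ≤ 2 ^ k := by
    intro k hk
    induction k, hk using Nat.le_induction with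
    | base => norm_num
    | succ n hn ih => rw [pow_succ]; omega
  rcases lt_or_ge k 4 with hk' | hk'
  · interval_cases k
    · left; norm_num
    · right; norm_num
    · exfalso; norm_num at h6; omega
    · exfalso; norm_num at h6; omega
  · exfalso
    have h8 := hk4 k hk'
    have h9 : m * (2 * k + 3) ≤ m * 2 ^ k := Nat.mul_le_mul_left _ h8
    have h10 : 1 ≤ m := by omega
    have h11 : w ≤ m + k := by omega
    nlinarith

end sys

end Cfsg.Agent.Omega.EH3.Clif

end

-- merged: Cfsg.Agent.Omega.EH3.Clif.Rep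
section

/-!
# Clifford step of EH3: the ring generated by a subgroup (helper291)

`S ρ N` : the subring of `End V` generated by `ρ(N)`.
* `rep ρ X` : the action of the subgroup `X`;
* `nor_rep` : normalising elements;
* `semisimple_down` : Clifford;
* `semisimple_of_irr`.
-/

set_option autoImplicit false

namespace Cfsg.Agent.Omega.EH3.Clif

open Module

variable {H V : Type*} [Group H] [AddCommGroup V] [Module (ZMod 2) V] (ρ : H →* (V ≃ₗ[ZMod 2] V))

/-- the additive endomorphism of `h` -/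
def rh (h : H) : AddMonoid.End V := ((ρ h : V →ₗ[ZMod 2] V) : V →+ V)

@[simp] theorem rh_apply (h : H) (v : V) : rh ρ h v = ρ h v := rfl

theorem rh_mul (g h : H) : rh ρ (g * h) = rh ρ g * rh ρ h := by
  ext v
  show ρ (g * h) v = ρ g (ρ h v)
  rw [map_mul]; rfl

theorem rh_one : rh ρ (1 : H) = 1 := by
  ext v
  show ρ 1 v = v
  rw [map_one]; rfl

/-- the ring generated by `N` -/
def S (N : Subgroup H) : Subring (AddMonoid.End V) := Subring.closure (rh ρ '' (N : Set H))

theorem mem_S {N : Subgroup H} {n : H} (hn : n ∈ N) : rh ρ n ∈ S ρ N :=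
  Subring.subset_closure ⟨n, hn, rfl⟩

theorem S_mono {N N' : Subgroup H} (h : N ≤ N') : S ρ N ≤ S ρ N' :=
  Subring.closure_mono (Set.image_mono h)

/-- the element of the ring -/
def el {N : Subgroup H} {n : H} (hn : n ∈ N) : S ρ N := ⟨rh ρ n, mem_S ρ hn⟩

@[simp] theorem el_smul {N : Subgroup H} {n : H} (hn : n ∈ N) (v : V) : el ρ hn • v = ρ n v := rfl

theorem S_smul {N : Subgroup H} (s : S ρ N) (v : V) : s • v = (s : AddMonoid.End V) v := rfl

variable {ρ}

theorem inv_of_sub {N : Subgroup H} (W : Submodule (S ρ N) V) {n : H} (hn : n ∈ N) {v : V}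
    (hv : v ∈ W) : ρ n v ∈ W := W.smul_mem (el ρ hn) hv

/-- an invariant subgroup as a submodule -/
def toSub {N : Subgroup H} (W : AddSubgroup V) (hW : ∀ n ∈ N, ∀ v ∈ W, ρ n v ∈ W) :
    Submodule (S ρ N) V where
  carrier := W
  add_mem' := fun hu hv => W.add_mem hu hv
  zero_mem' := W.zero_mem
  smul_mem' := by
    rintro ⟨s, hs⟩
    have key : ∀ v : V, v ∈ W → s v ∈ W := by
      induction hs using Subring.closure_induction with
      | mem x hx =>
        obtain ⟨n, hn, rfl⟩ := hx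
        intro v hv
        exact hW n hn v hv
      | zero => intro v _; exact W.zero_mem
      | one => intro v hv; exact hv
      | add x y _ _ hx hy => intro v hv; exact W.add_mem (hx v hv) (hy v hv)
      | neg x _ hx => intro v hv; exact W.neg_mem (hx v hv)
      | mul x y _ _ hx hy => intro v hv; exact hx _ (hy v hv)
    intro v hv
    exact key v hv

@[simp] theorem mem_toSub {N : Subgroup H} (W : AddSubgroup V) (hW : ∀ n ∈ N, ∀ v ∈ W, ρ n v ∈ W)
    (v : V) : v ∈ toSub W hW ↔ v ∈ W := Iff.rfl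

/-- as a vector space -/
def toZ {N : Subgroup H} (W : Submodule (S ρ N) V) : Submodule (ZMod 2) V where
  carrier := W
  add_mem' := fun hu hv => W.add_mem hu hv
  zero_mem' := W.zero_mem
  smul_mem' := by
    intro c v hv
    rcases zmod_two c with rfl | rfl
    · rw [zero_smul]; exact W.zero_mem
    · rw [one_smul]; exact hv

@[simp] theorem mem_toZ {N : Subgroup H} (W : Submodule (S ρ N) V) (v : V) : v ∈ toZ W ↔ v ∈ W := Iff.rfl

/-- conjugation of ring elements -/
theorem conj_mem {N N' : Subgroup H} {g : H} (hg : ∀ n ∈ N, g⁻¹ * n * g ∈ N') {f : AddMonoid.End V}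
    (hf : f ∈ S ρ N) : rh ρ g⁻¹ * f * rh ρ g ∈ S ρ N' := by
  have h1 : rh ρ g * rh ρ g⁻¹ = 1 := by rw [← rh_mul, mul_inv_cancel, rh_one]
  have h2 : rh ρ g⁻¹ * rh ρ g = 1 := by rw [← rh_mul, inv_mul_cancel, rh_one]
  induction hf using Subring.closure_induction with
  | mem x hx =>
    obtain ⟨n, hn, rfl⟩ := hx
    rw [← rh_mul, ← rh_mul]
    exact mem_S ρ (hg n hn)
  | zero => rw [mul_zero, zero_mul]; exact Subring.zero_mem _
  | one => rw [mul_one, h2]; exact Subring.one_mem _
  | add x y _ _ hx hy => rw [mul_add, add_mul]; exact Subring.add_mem _ hx hy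
  | neg x _ hx => rw [mul_neg, neg_mul]; exact Subring.neg_mem _ hx
  | mul x y _ _ hx hy =>
    have h3 : rh ρ g⁻¹ * (x * y) * rh ρ g = (rh ρ g⁻¹ * x * rh ρ g) * (rh ρ g⁻¹ * y * rh ρ g) := by
      calc rh ρ g⁻¹ * (x * y) * rh ρ g = rh ρ g⁻¹ * x * 1 * y * rh ρ g := by rw [mul_one]; simp only [mul_assoc]
        _ = rh ρ g⁻¹ * x * (rh ρ g * rh ρ g⁻¹) * y * rh ρ g := by rw [h1]
        _ = _ := by simp only [mul_assoc]
    rw [h3]
    exact Subring.mul_mem _ hx hy

theorem conj_apply {g : H} (f : AddMonoid.End V) (v : V) :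
    ρ g ((rh ρ g⁻¹ * f * rh ρ g) v) = f (ρ g v) := by
  show ρ g (ρ g⁻¹ (f (ρ g v))) = f (ρ g v)
  have : ρ g (ρ g⁻¹ (f (ρ g v))) = ρ (g * g⁻¹) (f (ρ g v)) := by rw [map_mul]; rfl
  rw [this, mul_inv_cancel, map_one]; rfl

/-- commuting groups generate commuting rings -/
theorem S_comm {N₁ N₂ : Subgroup H} (hc : ∀ x ∈ N₁, ∀ y ∈ N₂, x * y = y * x) :
    ∀ f ∈ S ρ N₁, ∀ g ∈ S ρ N₂, f * g = g * f := by
  have h1 : ∀ n ∈ N₁, ∀ g ∈ S ρ N₂, rh ρ n * g = g * rh ρ n := by
    intro n hn g hg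
    induction hg using Subring.closure_induction with
    | mem x hx =>
      obtain ⟨m, hm, rfl⟩ := hx
      rw [← rh_mul, ← rh_mul, hc n hn m hm]
    | zero => rw [zero_mul, mul_zero]
    | one => rw [one_mul, mul_one]
    | add x y _ _ hx hy => rw [mul_add, add_mul, hx, hy]
    | neg x _ hx => rw [mul_neg, neg_mul, hx]
    | mul x y _ _ hx hy => rw [← mul_assoc, hx, mul_assoc, hy, mul_assoc]
  intro f hf g hg
  induction hf using Subring.closure_induction with
  | mem x hx =>
    obtain ⟨n, hn, rfl⟩ := hx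
    exact h1 n hn g hg
  | zero => rw [zero_mul, mul_zero]
  | one => rw [one_mul, mul_one]
  | add x y _ _ hx hy => rw [mul_add, add_mul, hx, hy]
  | neg x _ hx => rw [mul_neg, neg_mul, hx]
  | mul x y _ _ hx hy => rw [mul_assoc, hy, ← mul_assoc, hx, mul_assoc]

/-- the subring of `S ρ N` belonging to a subgroup -/
def sub (N M : Subgroup H) : Subring (S ρ N) := (S ρ M).comap (S ρ N).subtype

theorem mem_sub {N M : Subgroup H} {s : S ρ N} : s ∈ sub (ρ := ρ) N M ↔ (s : AddMonoid.End V) ∈ S ρ M := Iff.rfl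

theorem sub_sup {N₁ N₂ : Subgroup H} :
    sub (ρ := ρ) (N₁ ⊔ N₂) N₁ ⊔ sub (N₁ ⊔ N₂) N₂ = ⊤ := by
  rw [eq_top_iff]
  set T := sub (ρ := ρ) (N₁ ⊔ N₂) N₁ ⊔ sub (N₁ ⊔ N₂) N₂ with hT
  let G : Subgroup H :=
    { carrier := {n | (∃ s ∈ T, (s : AddMonoid.End V) = rh ρ n) ∧ ∃ s ∈ T, (s : AddMonoid.End V) = rh ρ n⁻¹}
      one_mem' := by
        constructor
        · exact ⟨1, T.one_mem, (rh_one ρ).symm⟩
        · exact ⟨1, T.one_mem, by rw [inv_one]; exact (rh_one ρ).symm⟩
      mul_mem' := by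
        rintro x y ⟨⟨s, hs, hsx⟩, ⟨s', hs', hsx'⟩⟩ ⟨⟨t, ht, hty⟩, ⟨t', ht', hty'⟩⟩
        constructor
        · exact ⟨s * t, T.mul_mem hs ht, by rw [rh_mul, ← hsx, ← hty]; rfl⟩
        · exact ⟨t' * s', T.mul_mem ht' hs', by rw [mul_inv_rev, rh_mul, ← hsx', ← hty']; rfl⟩
      inv_mem' := by
        rintro x ⟨h, h'⟩
        refine ⟨h', ?_⟩
        rwa [inv_inv] }
  have h1 : N₁ ⊔ N₂ ≤ G := by
    apply sup_le
    · intro n hn
      exact ⟨⟨el ρ (Subgroup.mem_sup_left hn), (le_sup_left : sub (ρ := ρ) (N₁ ⊔ N₂) N₁ ≤ T)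
          (mem_sub.2 (mem_S ρ hn)), rfl⟩,
        ⟨el ρ (Subgroup.mem_sup_left (N₁.inv_mem hn)), (le_sup_left : sub (ρ := ρ) (N₁ ⊔ N₂) N₁ ≤ T)
          (mem_sub.2 (mem_S ρ (N₁.inv_mem hn))), rfl⟩⟩
    · intro n hn
      exact ⟨⟨el ρ (Subgroup.mem_sup_right hn), (le_sup_right : sub (ρ := ρ) (N₁ ⊔ N₂) N₂ ≤ T)
          (mem_sub.2 (mem_S ρ hn)), rfl⟩,
        ⟨el ρ (Subgroup.mem_sup_right (N₂.inv_mem hn)), (le_sup_right : sub (ρ := ρ) (N₁ ⊔ N₂) N₂ ≤ T)
          (mem_sub.2 (mem_S ρ (N₂.inv_mem hn))), rfl⟩⟩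
  have h2 : S ρ (N₁ ⊔ N₂) ≤ T.map (S ρ (N₁ ⊔ N₂)).subtype := by
    apply Subring.closure_le.2
    rintro _ ⟨n, hn, rfl⟩
    obtain ⟨s, hs, hsn⟩ := (h1 hn).1
    exact ⟨s, hs, hsn⟩
  rintro ⟨s, hs⟩ -
  obtain ⟨t, ht, hts⟩ := h2 hs
  have : t = ⟨s, hs⟩ := Subtype.ext hts
  rw [← this]
  exact ht

/-! ### the action of a subgroup -/

variable (ρ) in
/-- the action of a subgroup -/
def rep (X : Subgroup H) : Act X V :=
  Act.of (fun x => ((ρ (x : H) : V →ₗ[ZMod 2] V) : V →+ V))
    (fun v => by show ρ ((1 : X) : H) v = v; rw [Subgroup.coe_one, map_one]; rfl)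
    (fun x y v => by
      show ρ ((x * y : X) : H) v = ρ x (ρ y v)
      rw [Subgroup.coe_mul, map_mul]; rfl)

@[simp] theorem rep_apply (X : Subgroup H) (x : X) (v : V) : rep ρ X x v = ρ (x : H) v := rfl

theorem rep_symm (X : Subgroup H) (x : X) (v : V) : (rep ρ X x).symm v = ρ (x : H)⁻¹ v := by
  rw [Act.symm_apply]; rfl

theorem nor_rep {X N : Subgroup H} (x : X) (h : ∀ n ∈ N, (x : H)⁻¹ * n * x ∈ N)
    (h' : ∀ n ∈ N, (x : H) * n * (x : H)⁻¹ ∈ N) : Nor (S ρ N) (rep ρ X x) := by
  constructor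
  · rintro ⟨r, hr⟩
    refine ⟨⟨_, conj_mem h hr⟩, ?_⟩
    intro v
    exact (conj_apply r v).symm
  · rintro ⟨r, hr⟩
    have h'' : ∀ n ∈ N, ((x : H)⁻¹)⁻¹ * n * (x : H)⁻¹ ∈ N := by
      intro n hn
      rw [inv_inv]; exact h' n hn
    refine ⟨⟨_, conj_mem h'' hr⟩, ?_⟩
    intro v
    rw [rep_symm, rep_symm]
    exact (conj_apply (g := (x : H)⁻¹) r v).symm

/-- restriction to an invariant submodule, rings of subgroups -/
theorem nor_sub {X N M : Subgroup H} (hMN : M ≤ N) (U : Submodule (S ρ N) V)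
    (hU : ∀ x : X, ∀ v ∈ U, rep ρ X x v ∈ U) (x : X) (h : ∀ n ∈ M, (x : H)⁻¹ * n * x ∈ M)
    (h' : ∀ n ∈ M, (x : H) * n * (x : H)⁻¹ ∈ M) :
    Nor (sub (ρ := ρ) N M) (res (rep ρ X) U hU x) := by
  constructor
  · rintro ⟨⟨r, hr⟩, hr'⟩
    refine ⟨⟨⟨_, S_mono ρ hMN (conj_mem h hr')⟩, conj_mem h hr'⟩, ?_⟩
    intro v
    apply Subtype.ext
    exact (conj_apply r (v : V)).symm
  · rintro ⟨⟨r, hr⟩, hr'⟩
    have h'' : ∀ n ∈ M, ((x : H)⁻¹)⁻¹ * n * (x : H)⁻¹ ∈ M := by
      intro n hn
      rw [inv_inv]; exact h' n hn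
    refine ⟨⟨⟨_, S_mono ρ hMN (conj_mem h'' hr')⟩, conj_mem h'' hr'⟩, ?_⟩
    intro v
    apply Subtype.ext
    have h3 : ∀ u : U, (((res (rep ρ X) U hU x).symm u : U) : V) = ρ (x : H)⁻¹ u := by
      intro u
      rw [res_symm, rep_symm]
    show r ((((res (rep ρ X) U hU x).symm v : U) : V)) = _
    rw [h3, h3]
    exact (conj_apply (g := (x : H)⁻¹) r (v : V)).symm

/-- restriction to an invariant submodule, swapping elements -/
theorem swp_sub {X N M M' : Subgroup H} (hMN : M ≤ N) (hMN' : M' ≤ N) (U : Submodule (S ρ N) V)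
    (hU : ∀ x : X, ∀ v ∈ U, rep ρ X x v ∈ U) (x : X) (h : ∀ n ∈ M, (x : H) * n * (x : H)⁻¹ ∈ M')
    (h' : ∀ n ∈ M', (x : H)⁻¹ * n * (x : H) ∈ M) :
    Swp (sub (ρ := ρ) N M) (sub (ρ := ρ) N M') (res (rep ρ X) U hU x) := by
  have h'' : ∀ n ∈ M, ((x : H)⁻¹)⁻¹ * n * (x : H)⁻¹ ∈ M' := by
    intro n hn
    rw [inv_inv]; exact h n hn
  constructor
  · rintro ⟨⟨r, hr⟩, hr'⟩
    refine ⟨⟨⟨_, S_mono ρ hMN' (conj_mem h'' hr')⟩, conj_mem h'' hr'⟩, ?_⟩
    intro v
    apply Subtype.ext
    show ρ (x : H) (r v) = ρ (x : H)⁻¹⁻¹ (r (ρ (x : H)⁻¹ (ρ (x : H) v)))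
    have h4 : ρ (x : H)⁻¹ (ρ (x : H) (v : V)) = v := by
      have : ρ (x : H)⁻¹ (ρ (x : H) (v : V)) = ρ ((x : H)⁻¹ * x) v := by rw [map_mul]; rfl
      rw [this, inv_mul_cancel, map_one]; rfl
    rw [h4, inv_inv]
  · rintro ⟨⟨r, hr⟩, hr'⟩
    refine ⟨⟨⟨_, S_mono ρ hMN (conj_mem h' hr')⟩, conj_mem h' hr'⟩, ?_⟩
    intro v
    apply Subtype.ext
    exact conj_apply r (v : V)

/-! ### Clifford -/

theorem socle_inv {N M : Subgroup H} (hn : ∀ n ∈ N, ∀ m ∈ M, n * m * n⁻¹ ∈ M) {n : H} (hn1 : n ∈ N) {v : V}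
    (hv : v ∈ sSup {m : Submodule (S ρ M) V | IsSimpleModule (S ρ M) m}) :
    ρ n v ∈ sSup {m : Submodule (S ρ M) V | IsSimpleModule (S ρ M) m} := by
  have hn' : ∀ m ∈ M, n⁻¹ * m * n ∈ M := by
    intro m hm
    have := hn n⁻¹ (N.inv_mem hn1) m hm
    rwa [inv_inv] at this
  have hNor : Nor (S ρ M) (rep ρ N ⟨n, hn1⟩) := nor_rep ⟨n, hn1⟩ hn' (hn n hn1)
  have h1 : csIso (rep ρ N ⟨n, hn1⟩) hNor (sSup {m : Submodule (S ρ M) V | IsSimpleModule (S ρ M) m}) ≤
      sSup {m : Submodule (S ρ M) V | IsSimpleModule (S ρ M) m} := by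
    rw [OrderIso.map_sSup]
    apply iSup₂_le
    intro m hm
    exact le_sSup (cs_simple hNor hm)
  have h2 : rep ρ N ⟨n, hn1⟩ v ∈ cs (rep ρ N ⟨n, hn1⟩) hNor
      (sSup {m : Submodule (S ρ M) V | IsSimpleModule (S ρ M) m}) := (apply_mem_cs (hg := hNor)).2 hv
  exact h1 h2

theorem semisimple_down {N M : Subgroup H} [Finite V] (hMN : M ≤ N)
    (hn : ∀ n ∈ N, ∀ m ∈ M, n * m * n⁻¹ ∈ M) (hss : IsSemisimpleModule (S ρ N) V) :
    IsSemisimpleModule (S ρ M) V := by
  apply IsSemisimpleModule.of_sSup_simples_eq_top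
  generalize hW : sSup {m : Submodule (S ρ M) V | IsSimpleModule (S ρ M) m} = W
  have hinv : ∀ n ∈ N, ∀ v ∈ W.toAddSubgroup, ρ n v ∈ W.toAddSubgroup := by
    intro n hn1 v hv
    rw [← hW] at hv ⊢
    exact socle_inv hn hn1 hv
  obtain ⟨W₂, hW₂⟩ := exists_isCompl (toSub W.toAddSubgroup hinv)
  by_contra hne
  have hW₂ne : W₂ ≠ ⊥ := by
    intro hb
    apply hne
    rw [hb] at hW₂
    have h1 : toSub W.toAddSubgroup hinv = ⊤ := by
      have h2 := hW₂.sup_eq_top
      rwa [sup_bot_eq] at h2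
    rw [eq_top_iff]
    intro v _
    have h3 : v ∈ toSub W.toAddSubgroup hinv := by rw [h1]; exact Submodule.mem_top
    exact (mem_toSub _ _ _).1 h3
  obtain ⟨u, hu, hu0⟩ := Submodule.exists_mem_ne_zero_of_ne_bot hW₂ne
  have hinv₂ : ∀ n ∈ M, ∀ v ∈ W₂.toAddSubgroup, ρ n v ∈ W₂.toAddSubgroup :=
    fun n hn1 v hv => inv_of_sub W₂ (hMN hn1) hv
  have hW₃ne : toSub W₂.toAddSubgroup hinv₂ ≠ ⊥ := by
    intro h
    apply hu0
    have h1 : u ∈ toSub W₂.toAddSubgroup hinv₂ := (mem_toSub _ _ _).2 hu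
    rwa [h, Submodule.mem_bot] at h1
  obtain ⟨A, hA, hAle⟩ := (eq_bot_or_exists_atom_le (toSub W₂.toAddSubgroup hinv₂)).resolve_left hW₃ne
  obtain ⟨u', hu', hu0'⟩ := Submodule.exists_mem_ne_zero_of_ne_bot hA.1
  apply hu0'
  have h1 : u' ∈ W := by
    rw [← hW]
    exact (le_sSup (isSimpleModule_iff_isAtom.2 hA) : A ≤ _) hu'
  have h2 : u' ∈ W₂ := (mem_toSub _ _ _).1 (hAle hu')
  exact (Submodule.disjoint_def.1 hW₂.disjoint) u' ((mem_toSub _ _ _).2 h1) h2

theorem simple_of_irr [Nontrivial V]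
    (hirr : ∀ W : Submodule (ZMod 2) V, (∀ h, ∀ v ∈ W, ρ h v ∈ W) → W = ⊥ ∨ W = ⊤) :
    IsSimpleModule (S ρ (⊤ : Subgroup H)) V := by
  rw [isSimpleModule_iff]
  refine { exists_pair_ne := ⟨⊥, ⊤, bot_ne_top⟩, eq_bot_or_eq_top := ?_ }
  intro W
  rcases hirr (toZ W) (fun h v hv => inv_of_sub W (Subgroup.mem_top h) hv) with h | h
  · left
    rw [eq_bot_iff]
    intro v hv
    have : v ∈ toZ W := hv
    rw [h, Submodule.mem_bot] at this
    rw [Submodule.mem_bot]; exact this
  · right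
    rw [eq_top_iff]
    intro v _
    have : v ∈ toZ W := by rw [h]; exact Submodule.mem_top
    exact this

theorem semisimple_normal [Finite V] [Nontrivial V]
    (hirr : ∀ W : Submodule (ZMod 2) V, (∀ h, ∀ v ∈ W, ρ h v ∈ W) → W = ⊥ ∨ W = ⊤)
    {N : Subgroup H} (hN : N.Normal) : IsSemisimpleModule (S ρ N) V := by
  have := simple_of_irr hirr
  exact semisimple_down (N := ⊤) le_top (fun n _ m hm => hN.conj_mem m hm n) inferInstance

end Cfsg.Agent.Omega.EH3.Clif

end
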